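import Cfsg.Agent.Mrg.Omega.NOne.BetaTwo.Basic


/-!
# NO-1, type (beta), `q = 2`: the action of `Q_i` on the five points
-/

set_option autoImplicit false
set_option Elab.async false

namespace Cfsg.Agent.Omega.NOne.BetaTwo.Four

open Subgroup Equiv Cfsg Cfsg.Agent.MinSimple.VModule Cfsg.Agent.MinSimple.Basic
open Cfsg.Agent.Omega.NOne.BetaTwo.Basic
open Cfsg.Agent.ZN (o2 o2_map)

universe u

theorem pow8 : ∀ σ : Perm (Fin 5), σ ^ 8 = 1 → σ ^ 4 = 1 := by decide +kernel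

theorem pow4 {σ : Perm (Fin 5)} {n : ℕ} (h : σ ^ 2 ^ n = 1) : σ ^ 4 = 1 := by
  have h1 : orderOf σ ∣ 2 ^ n := orderOf_dvd_of_pow_eq_one h
  have h2 : orderOf σ ∣ 120 := by
    have := orderOf_dvd_natCard σ
    rwa [Nat.card_eq_fintype_card, Fintype.card_perm, Fintype.card_fin] at this
  obtain ⟨k, hk, hk2⟩ := (Nat.dvd_prime_pow Nat.prime_two).1 h1
  have h3 : k ≤ 3 := by
    by_contra h4
    have h5 : 2 ^ 4 ∣ orderOf σ := by rw [hk2]; exact pow_dvd_pow 2 (by omega)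
    have := h5.trans h2
    norm_num at this
  apply pow8
  apply orderOf_dvd_iff_pow_eq_one.1
  rw [hk2]
  exact pow_dvd_pow 2 h3

variable {G : Type u} [Group G] [Finite G] {P : Subgroup G} {z : Fin 5 → G}

/-- `V = ⟨z_i⟩` is not in `Q₀`, `S ≤ P ∩ C₀`. -/
structure Dat (S : Sylow 2 G) (P : Subgroup G) (z : Fin 5 → G) : Prop extends Hyp P z where
  SP : (S : Subgroup G) ≤ P
  SC : (S : Subgroup G) ≤ C z 0
  c2 : C z 0 ⊓ centralizer (Q z 0 : Set G) ≤ Q z 0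
  notV : ¬ V z ≤ Q z 0

variable {S : Sylow 2 G}

theorem Dat.Q0 (h : Dat S P z) : Q z 0 ≤ (S : Subgroup G) :=
  o2_le_of_sylow S.isPGroup' (not_dvd_relIndex S h.SC)

theorem Dat.exAct (h : Dat S P z) {p : G} (hp : p ∈ P) : ∃ σ, Act z p σ := h.act p hp

/-- some `p` in `P` moves `0` to `i` -/
theorem Dat.to (h : Dat S P z) (i : Fin 5) : ∃ p ∈ P, ∃ σ, Act z p σ ∧ σ 0 = i := by
  obtain ⟨p, hp, σ, hσ, h0⟩ := h.exP1 0 i
  exact ⟨p, hp, σ, hσ, h0⟩

theorem Dat.Q_eq (h : Dat S P z) {p : G} {σ : Perm (Fin 5)} (hσ : Act z p σ) (i : Fin 5) {x : G} :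
    x ∈ Q z (σ i) ↔ p⁻¹ * x * p ∈ Q z i := by
  constructor
  · intro hx
    have := hσ.inv.mapQ hx
    rw [show σ⁻¹ (σ i) = i from σ.symm_apply_apply i] at this
    simpa using this
  · intro hx
    have := hσ.mapQ hx
    have e : p * (p⁻¹ * x * p) * p⁻¹ = x := by group
    rwa [e] at this

theorem Dat.QP (h : Dat S P z) (i : Fin 5) : Q z i ≤ P := by
  obtain ⟨p, hp, σ, hσ, h0⟩ := h.to i
  intro x hx
  rw [← h0, h.Q_eq hσ] at hx
  have := mul_mem (mul_mem hp (h.SP (h.Q0 hx))) (inv_mem hp)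
  have e : p * (p⁻¹ * x * p) * p⁻¹ = x := by group
  rwa [e] at this

theorem QC (i : Fin 5) : Q z i ≤ C z i := o2_le _

theorem Q_pgroup (i : Fin 5) : IsPGroup 2 (Q z i) := o2_isPGroup _

/-- `C_i` normalises `Q_i` -/
theorem Qn {i : Fin 5} {c x : G} (hc : c ∈ C z i) (hx : x ∈ Q z i) : c * x * c⁻¹ ∈ Q z i :=
  (mem_normalizer_iff.1 (le_normalizer_o2 (C z i) hc) x).1 hx

theorem Dat.char2 (h : Dat S P z) (i : Fin 5) : C z i ⊓ centralizer (Q z i : Set G) ≤ Q z i := by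
  obtain ⟨p, hp, σ, hσ, rfl⟩ := h.to i
  rintro x ⟨hx, hx2⟩
  rw [h.Q_eq hσ]
  apply h.c2
  refine ⟨?_, ?_⟩
  · have := hσ.mapC' hx
    simpa using this
  · refine mem_centralizer_iff.2 fun y hy => ?_
    have := mem_centralizer_iff.1 hx2 _ (hσ.mapQ hy)
    calc y * (p⁻¹ * x * p) = p⁻¹ * ((p * y * p⁻¹) * x) * p := by group
      _ = p⁻¹ * (x * (p * y * p⁻¹)) * p := by rw [this]
      _ = p⁻¹ * x * p * y := by group

theorem Dat.notVi (h : Dat S P z) (i : Fin 5) : ¬ V z ≤ Q z i := by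
  obtain ⟨p, hp, σ, hσ, rfl⟩ := h.to i
  intro h1
  apply h.notV
  intro v hv
  have := (h.Q_eq hσ 0).1 (h1 (hσ.mapV hv))
  have e : p⁻¹ * (p * v * p⁻¹) * p = v := by group
  rwa [e] at this

/-- the permutation induced by an element of `Q_i` -/
theorem Dat.perm (h : Dat S P z) {i : Fin 5} {q : G} (hq : q ∈ Q z i) :
    ∃ σ, Act z q σ ∧ σ i = i ∧ (σ = 1 ∨ (σ * σ = 1 ∧ ∀ j, j ≠ i → σ j ≠ j)) := by
  have key : ∀ {q : G} {σ : Perm (Fin 5)}, q ∈ Q z i → Act z q σ → σ ^ 4 = 1 := by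
    intro q σ hq hσ
    obtain ⟨k, hk⟩ := (Q_pgroup i) ⟨q, hq⟩
    have hk' : q ^ 2 ^ k = 1 := congrArg Subtype.val hk
    apply pow4 (n := k)
    apply h.toHyp.act_one
    rw [← hk']
    exact hσ.pow _
  obtain ⟨σ, hσ⟩ := h.exAct (h.QP i hq)
  have hi : σ i = i := by
    apply h.inj
    rw [← hσ i]
    exact mem_C.1 (QC i hq)
  refine ⟨σ, hσ, hi, perm_i hi (key hq hσ) ?_⟩
  intro τ hτ hτi
  obtain ⟨p, hp, hpτ⟩ := h.alt τ hτ
  have hpC : p ∈ C z i := mem_C.2 (by rw [hpτ, hτi])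
  exact key (mul_mem hq (Qn hpC (inv_mem hq))) (hσ.mul ((Act.mul hpτ hσ.inv).mul (Act.inv hpτ)))

/-- an element of `Q_i` centralising a further point centralises `V` -/
theorem Dat.cV_of (h : Dat S P z) {i j : Fin 5} {q : G} (hq : q ∈ Q z i) (hij : j ≠ i)
    (hj : q * z j * q⁻¹ = z j) : q ∈ centralizer (V z : Set G) := by
  obtain ⟨σ, hσ, hi, h1⟩ := h.perm hq
  rcases h1 with rfl | ⟨-, h1⟩
  · exact mem_cV.2 hσ
  · exact absurd (h.inj ((hσ j).symm.trans hj)) (h1 j hij)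

theorem Dat.not_Qcent (h : Dat S P z) (i : Fin 5) : ¬ Q z i ≤ centralizer (V z : Set G) := by
  intro h1
  exact h.notVi i ((le_inf (h.V_le_C i) (le_centralizer_iff.1 h1)).trans (h.char2 i))

/-- a subgroup of `Q_i` normalised by `P ∩ C_i`, not in `C(V)`, induces the regular four group -/
theorem Dat.exN (h : Dat S P z) {i : Fin 5} {N : Subgroup G} (hN : N ≤ Q z i)
    (hn : ∀ p ∈ P, p ∈ C z i → ∀ x ∈ N, p * x * p⁻¹ ∈ N) (h1 : ¬ N ≤ centralizer (V z : Set G))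
    {j k l m : Fin 5} (hnd : [i, j, k, l, m].Nodup) :
    ∃ q ∈ N, ∃ σ, Act z q σ ∧ σ i = i ∧ σ j = k ∧ σ k = j ∧ σ l = m ∧ σ m = l := by
  obtain ⟨n1, n2, n3, n4, n5, n6, n7, n8, n9, n10⟩ := nd hnd
  obtain ⟨q, hq, hq1⟩ := SetLike.not_le_iff_exists.1 h1
  obtain ⟨σ, hσ, hi, h2⟩ := h.perm (hN hq)
  rcases h2 with rfl | ⟨h2, h3⟩
  · exact absurd (mem_cV.2 hσ) hq1
  have ha : σ j ≠ i := fun h4 => n1 (σ.injective (h4.trans hi.symm)).symm
  obtain ⟨p, hp, τ, hτ, e1, e2, e3⟩ := h.exP n1 ha.symm (h3 j n1.symm).symm n1 n2 n5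
  have hpC : p ∈ C z i := mem_C.2 (by rw [hτ, e1])
  have hτi : τ⁻¹ i = i := by rw [Perm.inv_eq_iff_eq]; exact e1.symm
  have hτj : τ⁻¹ j = j := by rw [Perm.inv_eq_iff_eq]; exact e2.symm
  have hτk : τ⁻¹ k = σ j := by rw [Perm.inv_eq_iff_eq]; exact e3.symm
  have hρ : Act z (p * q * p⁻¹) (τ * σ * τ⁻¹) := (Act.mul hτ hσ).mul (Act.inv hτ)
  set ρ := τ * σ * τ⁻¹ with hρdef
  have r1 : ρ i = i := by rw [hρdef, Perm.mul_apply, Perm.mul_apply, hτi, hi, e1]
  have r2 : ρ j = k := by rw [hρdef, Perm.mul_apply, Perm.mul_apply, hτj, e3]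
  have r4 : ρ * ρ = 1 := by
    rw [hρdef]
    calc τ * σ * τ⁻¹ * (τ * σ * τ⁻¹) = τ * (σ * σ) * τ⁻¹ := by group
      _ = 1 := by rw [h2]; group
  have r3 : ρ k = j := by rw [← r2, ← Perm.mul_apply, r4]; rfl
  have r5 : ∀ a, a ≠ i → ρ a ≠ a := by
    intro a ha h5
    have h6 : σ (τ⁻¹ a) = τ⁻¹ a := by
      apply τ.injective
      rw [show τ (τ⁻¹ a) = a from τ.apply_symm_apply a]
      exact h5
    refine h3 (τ⁻¹ a) ?_ h6
    intro h7
    apply ha
    rw [← hτi] at h7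
    exact τ⁻¹.injective h7
  refine ⟨p * q * p⁻¹, hn p hp hpC q hq, ρ, hρ, r1, r2, r3, ?_, ?_⟩
  · rcases five i j k l m (ρ l) hnd with h8 | h8 | h8 | h8 | h8
    · exact absurd (ρ.injective (h8.trans r1.symm)) n3.symm
    · exact absurd (ρ.injective (h8.trans r3.symm)) n8.symm
    · exact absurd (ρ.injective (h8.trans r2.symm)) n6.symm
    · exact absurd h8 (r5 l n3.symm)
    · exact h8
  · rcases five i j k l m (ρ m) hnd with h8 | h8 | h8 | h8 | h8
    · exact absurd (ρ.injective (h8.trans r1.symm)) n4.symm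
    · exact absurd (ρ.injective (h8.trans r3.symm)) n9.symm
    · exact absurd (ρ.injective (h8.trans r2.symm)) n7.symm
    · exact h8
    · exact absurd h8 (r5 m n4.symm)

theorem Dat.exQ (h : Dat S P z) {i j k l m : Fin 5} (hnd : [i, j, k, l, m].Nodup) :
    ∃ q ∈ Q z i, ∃ σ, Act z q σ ∧ σ i = i ∧ σ j = k ∧ σ k = j ∧ σ l = m ∧ σ m = l :=
  h.exN le_rfl (fun _ _ hc _ hx => Qn hc hx) (h.not_Qcent i) hnd

/-! ### `E_i = V ∩ Q_i` -/

theorem Dat.zz_mem (h : Dat S P z) {i j k : Fin 5} (h1 : i ≠ j) (h2 : i ≠ k) (h3 : j ≠ k) :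
    z j * z k ∈ Q z i := by
  obtain ⟨l, m, hnd⟩ := ext3 i j k h1 h2 h3
  obtain ⟨q, hq, σ, hσ, -, e1, e2, -, -⟩ := h.exQ hnd
  have h4 : q * (z j * q⁻¹ * (z j)⁻¹) ∈ Q z i :=
    mul_mem hq (Qn (h.V_le_C i (z_mem j)) (inv_mem hq))
  have h5 : q * (z j * q⁻¹ * (z j)⁻¹) = z j * z k := by
    have : q * (z j * q⁻¹ * (z j)⁻¹) = (q * z j * q⁻¹) * (z j)⁻¹ := by group
    rw [this, hσ, e1, h.zinv, h.comm]
  rwa [h5] at h4

theorem Dat.z_self (h : Dat S P z) (i : Fin 5) : z i ∈ Q z i := by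
  have h1 : zpowers (z i) ≤ o2 (C z i) := by
    refine le_o2 ?_ ?_ ?_
    · rw [zpowers_le]; exact h.V_le_C i (z_mem i)
    · intro x
      obtain ⟨x, n, rfl⟩ := x
      refine ⟨1, Subtype.ext ?_⟩
      change (z i ^ n) ^ 2 ^ 1 = 1
      rw [← zpow_natCast, ← zpow_mul, mul_comm, zpow_mul]
      simp [pow_two, h.sq]
    · intro c hc
      rw [mem_normalizer_iff]
      have hcz : ∀ x ∈ zpowers (z i), c * x * c⁻¹ = x := by
        rintro _ ⟨n, rfl⟩
        simp only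
        rw [← conj_zpow, mem_C.1 hc]
      intro x
      constructor
      · intro hx; rw [hcz x hx]; exact hx
      · intro hx
        have := hcz _ hx
        have h2 : c * x * c⁻¹ = x := by
          have h3 : c * (c * x * c⁻¹) * c⁻¹ = c * x * c⁻¹ := this
          have h4 : c * x * c⁻¹ = x := by
            have := mul_right_cancel h3
            exact mul_left_cancel this
          exact h4
        rwa [h2] at hx
  exact h1 (mem_zpowers _)

theorem Dat.z_not (h : Dat S P z) {i j : Fin 5} (h1 : i ≠ j) : z j ∉ Q z i := by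
  intro h2
  apply h.notVi i
  rw [V, closure_le]
  rintro _ ⟨k, rfl⟩
  by_cases hik : i = k
  · subst hik; exact h.z_self i
  by_cases hjk : j = k
  · subst hjk; exact h2
  have := mul_mem h2 (h.zz_mem h1 hik hjk)
  rwa [← mul_assoc, h.sq, one_mul] at this

/-- the elements of `V ∩ Q_i` -/
theorem Dat.mem_E (h : Dat S P z) {i : Fin 5} {v : G} (hv : v ∈ V z) (hvQ : v ∈ Q z i) :
    v = 1 ∨ v = z i ∨ ∃ j k, i ≠ j ∧ i ≠ k ∧ j ≠ k ∧ v = z j * z k := by
  rcases h.mem_V hv with rfl | ⟨j, rfl⟩ | ⟨j, k, hjk, rfl⟩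
  · exact Or.inl rfl
  · by_cases hij : i = j
    · subst hij; exact Or.inr (Or.inl rfl)
    · exact absurd hvQ (h.z_not hij)
  · by_cases hij : i = j
    · subst hij
      exfalso
      have := mul_mem (inv_mem (h.z_self i)) hvQ
      rw [inv_mul_cancel_left] at this
      exact h.z_not hjk this
    by_cases hik : i = k
    · subst hik
      exfalso
      have := mul_mem hvQ (inv_mem (h.z_self i))
      rw [mul_inv_cancel_right] at this
      exact h.z_not (Ne.symm hjk) this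
    exact Or.inr (Or.inr ⟨j, k, hij, hik, hjk, rfl⟩)

/-- `|V : V ∩ Q_i| = 2` -/
theorem Dat.index_E (h : Dat S P z) {i j : Fin 5} (hij : i ≠ j) {v : G} (hv : v ∈ V z) :
    v ∈ Q z i ∨ v * z j ∈ Q z i := by
  rcases h.mem_V hv with rfl | ⟨k, rfl⟩ | ⟨k, l, hkl, rfl⟩
  · exact Or.inl (one_mem _)
  · by_cases hik : i = k
    · subst hik; exact Or.inl (h.z_self i)
    right
    by_cases hjk : j = k
    · subst hjk; rw [h.sq]; exact one_mem _
    · exact h.zz_mem hik hij (Ne.symm hjk)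
  · by_cases hik : i = k
    · subst hik
      right
      rw [mul_assoc]
      refine mul_mem (h.z_self i) ?_
      by_cases hjl : j = l
      · subst hjl; rw [h.sq]; exact one_mem _
      · exact h.zz_mem hkl hij (Ne.symm hjl)
    by_cases hil : i = l
    · subst hil
      right
      rw [h.comm k i, mul_assoc]
      refine mul_mem (h.z_self i) ?_
      by_cases hjk : j = k
      · subst hjk; rw [h.sq]; exact one_mem _
      · exact h.zz_mem hik hij (Ne.symm hjk)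
    exact Or.inl (h.zz_mem hik hil hkl)

end Cfsg.Agent.Omega.NOne.BetaTwo.Four
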